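import Cfsg.Agent.Lib.Helper9.TCData.Fi22CX.Main

set_option autoImplicit false
set_option maxRecDepth 1000000

namespace Cfsg.Agent.Helper9.TCData.Fi22CX
open Cfsg.Agent.Helper9.TC2

theorem e0_8 : allRange 17253 1648 (fun u => chkE tab 0 u) = true := by decide +kernel

theorem e0_9 : allRange 18901 1669 (fun u => chkE tab 0 u) = true := by decide +kernel

theorem e0_10 : allRange 20570 2287 (fun u => chkE tab 0 u) = true := by decide +kernel

theorem e0_11 : allRange 22857 2105 (fun u => chkE tab 0 u) = true := by decide +kernel

theorem e0_12 : allRange 24962 3842 (fun u => chkE tab 0 u) = true := by decide +kernel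

theorem e0_13 : allRange 28804 2366 (fun u => chkE tab 0 u) = true := by decide +kernel

theorem e0_14 : allRange 31170 1654 (fun u => chkE tab 0 u) = true := by decide +kernel

theorem e0_15 : allRange 32824 2023 (fun u => chkE tab 0 u) = true := by decide +kernel


end Cfsg.Agent.Helper9.TCData.Fi22CX
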