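import Cfsg.Agent.Lib.Helper9.TCData.Fi22CX.Main

set_option autoImplicit false
set_option maxRecDepth 1000000

namespace Cfsg.Agent.Helper9.TCData.Fi22CX
open Cfsg.Agent.Helper9.TC2

theorem e4_16 : allRange 55653 17171 (fun u => chkE tab 4 u) = true := by decide +kernel

theorem e4_17 : allRange 72824 4920 (fun u => chkE tab 4 u) = true := by decide +kernel

theorem e5_0 : allRange 0 2399 (fun u => chkE tab 5 u) = true := by decide +kernel

theorem e5_1 : allRange 2399 2342 (fun u => chkE tab 5 u) = true := by decide +kernel

theorem e5_2 : allRange 4741 2337 (fun u => chkE tab 5 u) = true := by decide +kernel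

theorem e5_3 : allRange 7078 2401 (fun u => chkE tab 5 u) = true := by decide +kernel

theorem e5_4 : allRange 9479 2351 (fun u => chkE tab 5 u) = true := by decide +kernel

theorem e5_5 : allRange 11830 2395 (fun u => chkE tab 5 u) = true := by decide +kernel


end Cfsg.Agent.Helper9.TCData.Fi22CX
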