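import Cfsg.Agent.Lib.Helper9.TCData.Fi22CX.Main

set_option autoImplicit false
set_option maxRecDepth 1000000

namespace Cfsg.Agent.Helper9.TCData.Fi22CX
open Cfsg.Agent.Helper9.TC2

theorem e5_6 : allRange 14225 2413 (fun u => chkE tab 5 u) = true := by decide +kernel

theorem e5_7 : allRange 16638 2430 (fun u => chkE tab 5 u) = true := by decide +kernel

theorem e5_8 : allRange 19068 2465 (fun u => chkE tab 5 u) = true := by decide +kernel

theorem e5_9 : allRange 21533 2396 (fun u => chkE tab 5 u) = true := by decide +kernel

theorem e5_10 : allRange 23929 2480 (fun u => chkE tab 5 u) = true := by decide +kernel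

theorem e5_11 : allRange 26409 2417 (fun u => chkE tab 5 u) = true := by decide +kernel

theorem e5_12 : allRange 28826 2453 (fun u => chkE tab 5 u) = true := by decide +kernel

theorem e5_13 : allRange 31279 2481 (fun u => chkE tab 5 u) = true := by decide +kernel


end Cfsg.Agent.Helper9.TCData.Fi22CX
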