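import Cfsg.Agent.Lib.Helper9.TCData.Fi22CX.Main

set_option autoImplicit false
set_option maxRecDepth 1000000

namespace Cfsg.Agent.Helper9.TCData.Fi22CX
open Cfsg.Agent.Helper9.TC2

theorem e5_14 : allRange 33760 2504 (fun u => chkE tab 5 u) = true := by decide +kernel

theorem e5_15 : allRange 36264 2575 (fun u => chkE tab 5 u) = true := by decide +kernel

theorem e5_16 : allRange 38839 4498 (fun u => chkE tab 5 u) = true := by decide +kernel

theorem e5_17 : allRange 43337 14692 (fun u => chkE tab 5 u) = true := by decide +kernel

theorem e5_18 : allRange 58029 16235 (fun u => chkE tab 5 u) = true := by decide +kernel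

theorem e5_19 : allRange 74264 3480 (fun u => chkE tab 5 u) = true := by decide +kernel

theorem e6_0 : allRange 0 2321 (fun u => chkE tab 6 u) = true := by decide +kernel

theorem e6_1 : allRange 2321 2206 (fun u => chkE tab 6 u) = true := by decide +kernel


end Cfsg.Agent.Helper9.TCData.Fi22CX
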