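import Cfsg.Agent.Lib.Helper9.TCData.Fi22CX.Main

set_option autoImplicit false
set_option maxRecDepth 1000000

namespace Cfsg.Agent.Helper9.TCData.Fi22CX
open Cfsg.Agent.Helper9.TC2

theorem e6_18 : allRange 40358 11336 (fun u => chkE tab 6 u) = true := by decide +kernel

theorem e6_19 : allRange 51694 16217 (fun u => chkE tab 6 u) = true := by decide +kernel

theorem e6_20 : allRange 67911 9833 (fun u => chkE tab 6 u) = true := by decide +kernel

theorem e7_0 : allRange 0 4316 (fun u => chkE tab 7 u) = true := by decide +kernel

theorem e7_1 : allRange 4316 3815 (fun u => chkE tab 7 u) = true := by decide +kernel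

theorem e7_2 : allRange 8131 3584 (fun u => chkE tab 7 u) = true := by decide +kernel

theorem e7_3 : allRange 11715 3614 (fun u => chkE tab 7 u) = true := by decide +kernel

theorem e7_4 : allRange 15329 3363 (fun u => chkE tab 7 u) = true := by decide +kernel


end Cfsg.Agent.Helper9.TCData.Fi22CX
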