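import Cfsg.Agent.Lib.Helper9.TCData.Fi22CX.Main

set_option autoImplicit false
set_option maxRecDepth 1000000

namespace Cfsg.Agent.Helper9.TCData.Fi22CX
open Cfsg.Agent.Helper9.TC2

theorem e7_5 : allRange 18692 3384 (fun u => chkE tab 7 u) = true := by decide +kernel

theorem e7_6 : allRange 22076 3424 (fun u => chkE tab 7 u) = true := by decide +kernel

theorem e7_7 : allRange 25500 3268 (fun u => chkE tab 7 u) = true := by decide +kernel

theorem e7_8 : allRange 28768 3483 (fun u => chkE tab 7 u) = true := by decide +kernel

theorem e7_9 : allRange 32251 3154 (fun u => chkE tab 7 u) = true := by decide +kernel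

theorem e7_10 : allRange 35405 3294 (fun u => chkE tab 7 u) = true := by decide +kernel

theorem e7_11 : allRange 38699 7309 (fun u => chkE tab 7 u) = true := by decide +kernel

theorem e7_12 : allRange 46008 16863 (fun u => chkE tab 7 u) = true := by decide +kernel


end Cfsg.Agent.Helper9.TCData.Fi22CX
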