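import Cfsg.Agent.Lib.Helper9.TCData.Fi22CX.Main

set_option autoImplicit false
set_option maxRecDepth 1000000

namespace Cfsg.Agent.Helper9.TCData.Fi22CX
open Cfsg.Agent.Helper9.TC2

theorem e7_13 : allRange 62871 14873 (fun u => chkE tab 7 u) = true := by decide +kernel

theorem e8_0 : allRange 0 4682 (fun u => chkE tab 8 u) = true := by decide +kernel

theorem e8_1 : allRange 4682 4145 (fun u => chkE tab 8 u) = true := by decide +kernel

theorem e8_2 : allRange 8827 3937 (fun u => chkE tab 8 u) = true := by decide +kernel

theorem e8_3 : allRange 12764 3774 (fun u => chkE tab 8 u) = true := by decide +kernel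

theorem e8_4 : allRange 16538 3665 (fun u => chkE tab 8 u) = true := by decide +kernel

theorem e8_5 : allRange 20203 3775 (fun u => chkE tab 8 u) = true := by decide +kernel

theorem e8_6 : allRange 23978 3511 (fun u => chkE tab 8 u) = true := by decide +kernel


end Cfsg.Agent.Helper9.TCData.Fi22CX
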