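import Cfsg.Agent.Lib.Helper9.TCData.Fi22CX.Main

set_option autoImplicit false
set_option maxRecDepth 1000000

namespace Cfsg.Agent.Helper9.TCData.Fi22CX
open Cfsg.Agent.Helper9.TC2

theorem e0_16 : allRange 34847 1655 (fun u => chkE tab 0 u) = true := by decide +kernel

theorem e0_17 : allRange 36502 1741 (fun u => chkE tab 0 u) = true := by decide +kernel

theorem e0_18 : allRange 38243 1656 (fun u => chkE tab 0 u) = true := by decide +kernel

theorem e0_19 : allRange 39899 7342 (fun u => chkE tab 0 u) = true := by decide +kernel

theorem e0_20 : allRange 47241 13184 (fun u => chkE tab 0 u) = true := by decide +kernel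

theorem e0_21 : allRange 60425 17319 (fun u => chkE tab 0 u) = true := by decide +kernel

theorem e1_0 : allRange 0 2063 (fun u => chkE tab 1 u) = true := by decide +kernel

theorem e1_1 : allRange 2063 2059 (fun u => chkE tab 1 u) = true := by decide +kernel


end Cfsg.Agent.Helper9.TCData.Fi22CX
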