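import Cfsg.Agent.Lib.Helper9.TCData.Fi22CX.Main

set_option autoImplicit false
set_option maxRecDepth 1000000

namespace Cfsg.Agent.Helper9.TCData.Fi22CX
open Cfsg.Agent.Helper9.TC2

theorem l_32 : allRange 51189 1600 (fun u => chkL tab u) = true := by decide +kernel

theorem l_33 : allRange 52789 1600 (fun u => chkL tab u) = true := by decide +kernel

theorem l_34 : allRange 54389 1600 (fun u => chkL tab u) = true := by decide +kernel

theorem l_35 : allRange 55989 1600 (fun u => chkL tab u) = true := by decide +kernel

theorem l_36 : allRange 57589 1600 (fun u => chkL tab u) = true := by decide +kernel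

theorem l_37 : allRange 59189 1600 (fun u => chkL tab u) = true := by decide +kernel

theorem l_38 : allRange 60789 1600 (fun u => chkL tab u) = true := by decide +kernel

theorem l_39 : allRange 62389 1600 (fun u => chkL tab u) = true := by decide +kernel


end Cfsg.Agent.Helper9.TCData.Fi22CX
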