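import Cfsg.Agent.Lib.Helper9.TCData.Fi22CX.Main

set_option autoImplicit false
set_option maxRecDepth 1000000

namespace Cfsg.Agent.Helper9.TCData.Fi22CX
open Cfsg.Agent.Helper9.TC2

theorem l_40 : allRange 63989 1600 (fun u => chkL tab u) = true := by decide +kernel

theorem l_41 : allRange 65589 1596 (fun u => chkL tab u) = true := by decide +kernel

theorem l_42 : allRange 67185 1600 (fun u => chkL tab u) = true := by decide +kernel

theorem l_43 : allRange 68785 1599 (fun u => chkL tab u) = true := by decide +kernel

theorem l_44 : allRange 70384 1600 (fun u => chkL tab u) = true := by decide +kernel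

theorem l_45 : allRange 71984 1597 (fun u => chkL tab u) = true := by decide +kernel

theorem l_46 : allRange 73581 1600 (fun u => chkL tab u) = true := by decide +kernel

theorem l_47 : allRange 75181 1600 (fun u => chkL tab u) = true := by decide +kernel


end Cfsg.Agent.Helper9.TCData.Fi22CX
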