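import Cfsg.Agent.Lib.Helper9.TCData.Fi22CX.Main

set_option autoImplicit false
set_option maxRecDepth 1000000

namespace Cfsg.Agent.Helper9.TCData.Fi22CX
open Cfsg.Agent.Helper9.TC2

theorem e1_10 : allRange 21598 2586 (fun u => chkE tab 1 u) = true := by decide +kernel

theorem e1_11 : allRange 24184 2223 (fun u => chkE tab 1 u) = true := by decide +kernel

theorem e1_12 : allRange 26407 2286 (fun u => chkE tab 1 u) = true := by decide +kernel

theorem e1_13 : allRange 28693 2108 (fun u => chkE tab 1 u) = true := by decide +kernel

theorem e1_14 : allRange 30801 2208 (fun u => chkE tab 1 u) = true := by decide +kernel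

theorem e1_15 : allRange 33009 2440 (fun u => chkE tab 1 u) = true := by decide +kernel

theorem e1_16 : allRange 35449 1812 (fun u => chkE tab 1 u) = true := by decide +kernel

theorem e1_17 : allRange 37261 2017 (fun u => chkE tab 1 u) = true := by decide +kernel


end Cfsg.Agent.Helper9.TCData.Fi22CX
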