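import Cfsg.Agent.Lib.Helper9.TCData.Fi22CX.Main

set_option autoImplicit false
set_option maxRecDepth 1000000

namespace Cfsg.Agent.Helper9.TCData.Fi22CX
open Cfsg.Agent.Helper9.TC2

theorem e1_18 : allRange 39278 3557 (fun u => chkE tab 1 u) = true := by decide +kernel

theorem e1_19 : allRange 42835 15465 (fun u => chkE tab 1 u) = true := by decide +kernel

theorem e1_20 : allRange 58300 19444 (fun u => chkE tab 1 u) = true := by decide +kernel

theorem e2_0 : allRange 0 2192 (fun u => chkE tab 2 u) = true := by decide +kernel

theorem e2_1 : allRange 2192 2311 (fun u => chkE tab 2 u) = true := by decide +kernel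

theorem e2_2 : allRange 4503 2310 (fun u => chkE tab 2 u) = true := by decide +kernel

theorem e2_3 : allRange 6813 2373 (fun u => chkE tab 2 u) = true := by decide +kernel

theorem e2_4 : allRange 9186 2467 (fun u => chkE tab 2 u) = true := by decide +kernel


end Cfsg.Agent.Helper9.TCData.Fi22CX
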