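import Cfsg.Agent.Lib.Helper9.TCData.Fi22CX.Main

set_option autoImplicit false
set_option maxRecDepth 1000000

namespace Cfsg.Agent.Helper9.TCData.Fi22CX
open Cfsg.Agent.Helper9.TC2

theorem e2_5 : allRange 11653 2212 (fun u => chkE tab 2 u) = true := by decide +kernel

theorem e2_6 : allRange 13865 2506 (fun u => chkE tab 2 u) = true := by decide +kernel

theorem e2_7 : allRange 16371 2321 (fun u => chkE tab 2 u) = true := by decide +kernel

theorem e2_8 : allRange 18692 2248 (fun u => chkE tab 2 u) = true := by decide +kernel

theorem e2_9 : allRange 20940 2691 (fun u => chkE tab 2 u) = true := by decide +kernel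

theorem e2_10 : allRange 23631 2336 (fun u => chkE tab 2 u) = true := by decide +kernel

theorem e2_11 : allRange 25967 2181 (fun u => chkE tab 2 u) = true := by decide +kernel

theorem e2_12 : allRange 28148 2345 (fun u => chkE tab 2 u) = true := by decide +kernel


end Cfsg.Agent.Helper9.TCData.Fi22CX
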