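import Cfsg.Agent.Lib.Helper9.TCData.Fi22CX.Main

set_option autoImplicit false
set_option maxRecDepth 1000000

namespace Cfsg.Agent.Helper9.TCData.Fi22CX
open Cfsg.Agent.Helper9.TC2

theorem e2_13 : allRange 30493 2516 (fun u => chkE tab 2 u) = true := by decide +kernel

theorem e2_14 : allRange 33009 2595 (fun u => chkE tab 2 u) = true := by decide +kernel

theorem e2_15 : allRange 35604 2196 (fun u => chkE tab 2 u) = true := by decide +kernel

theorem e2_16 : allRange 37800 2151 (fun u => chkE tab 2 u) = true := by decide +kernel

theorem e2_17 : allRange 39951 9018 (fun u => chkE tab 2 u) = true := by decide +kernel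

theorem e2_18 : allRange 48969 17794 (fun u => chkE tab 2 u) = true := by decide +kernel

theorem e2_19 : allRange 66763 10981 (fun u => chkE tab 2 u) = true := by decide +kernel

theorem e3_0 : allRange 0 2806 (fun u => chkE tab 3 u) = true := by decide +kernel


end Cfsg.Agent.Helper9.TCData.Fi22CX
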