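import Cfsg.Agent.Lib.Helper9.TCData.Fi22CX.Main

set_option autoImplicit false
set_option maxRecDepth 1000000

namespace Cfsg.Agent.Helper9.TCData.Fi22CX
open Cfsg.Agent.Helper9.TC2

theorem e3_1 : allRange 2806 2877 (fun u => chkE tab 3 u) = true := by decide +kernel

theorem e3_2 : allRange 5683 2776 (fun u => chkE tab 3 u) = true := by decide +kernel

theorem e3_3 : allRange 8459 2832 (fun u => chkE tab 3 u) = true := by decide +kernel

theorem e3_4 : allRange 11291 2804 (fun u => chkE tab 3 u) = true := by decide +kernel

theorem e3_5 : allRange 14095 2822 (fun u => chkE tab 3 u) = true := by decide +kernel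

theorem e3_6 : allRange 16917 2815 (fun u => chkE tab 3 u) = true := by decide +kernel

theorem e3_7 : allRange 19732 2843 (fun u => chkE tab 3 u) = true := by decide +kernel

theorem e3_8 : allRange 22575 2717 (fun u => chkE tab 3 u) = true := by decide +kernel


end Cfsg.Agent.Helper9.TCData.Fi22CX
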