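import Cfsg.Agent.Lib.Helper9.TCData.Fi22CX.Main

set_option autoImplicit false
set_option maxRecDepth 1000000

namespace Cfsg.Agent.Helper9.TCData.Fi22CX
open Cfsg.Agent.Helper9.TC2

theorem e3_9 : allRange 25292 2647 (fun u => chkE tab 3 u) = true := by decide +kernel

theorem e3_10 : allRange 27939 2944 (fun u => chkE tab 3 u) = true := by decide +kernel

theorem e3_11 : allRange 30883 2805 (fun u => chkE tab 3 u) = true := by decide +kernel

theorem e3_12 : allRange 33688 2723 (fun u => chkE tab 3 u) = true := by decide +kernel

theorem e3_13 : allRange 36411 2723 (fun u => chkE tab 3 u) = true := by decide +kernel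

theorem e3_14 : allRange 39134 6389 (fun u => chkE tab 3 u) = true := by decide +kernel

theorem e3_15 : allRange 45523 15013 (fun u => chkE tab 3 u) = true := by decide +kernel

theorem e3_16 : allRange 60536 17208 (fun u => chkE tab 3 u) = true := by decide +kernel


end Cfsg.Agent.Helper9.TCData.Fi22CX
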