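import Cfsg.Agent.Lib.Helper9.TCData.Fi22CX.S0
import Cfsg.Agent.Lib.Helper9.TCData.Fi22CX.S1
import Cfsg.Agent.Lib.Helper9.TCData.Fi22CX.S2
import Cfsg.Agent.Lib.Helper9.TCData.Fi22CX.S3
import Cfsg.Agent.Lib.Helper9.TCData.Fi22CX.S4
import Cfsg.Agent.Lib.Helper9.TCData.Fi22CX.S5
import Cfsg.Agent.Lib.Helper9.TCData.Fi22CX.S6
import Cfsg.Agent.Lib.Helper9.TCData.Fi22CX.S7
import Cfsg.Agent.Lib.Helper9.TCData.Fi22CX.S8
import Cfsg.Agent.Lib.Helper9.TCData.Fi22CX.S9
import Cfsg.Agent.Lib.Helper9.TCData.Fi22CX.S10
import Cfsg.Agent.Lib.Helper9.TCData.Fi22CX.S11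
import Cfsg.Agent.Lib.Helper9.TCData.Fi22CX.S12
import Cfsg.Agent.Lib.Helper9.TCData.Fi22CX.S13
import Cfsg.Agent.Lib.Helper9.TCData.Fi22CX.S14
import Cfsg.Agent.Lib.Helper9.TCData.Fi22CX.S15
import Cfsg.Agent.Lib.Helper9.TCData.Fi22CX.S16
import Cfsg.Agent.Lib.Helper9.TCData.Fi22CX.S17
import Cfsg.Agent.Lib.Helper9.TCData.Fi22CX.S18
import Cfsg.Agent.Lib.Helper9.TCData.Fi22CX.S19
import Cfsg.Agent.Lib.Helper9.TCData.Fi22CX.S20
import Cfsg.Agent.Lib.Helper9.TCData.Fi22CX.S21
import Cfsg.Agent.Lib.Helper9.TCData.Fi22CX.S22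
import Cfsg.Agent.Lib.Helper9.TCData.Fi22CX.S23
import Cfsg.Agent.Lib.Helper9.TCData.Fi22CX.S24
import Cfsg.Agent.Lib.Helper9.TCData.Fi22CX.S25
import Cfsg.Agent.Lib.Helper9.TCData.Fi22CX.S26
import Cfsg.Agent.Lib.Helper9.TCData.Fi22CX.S27
import Cfsg.Agent.Lib.Helper9.TCData.Fi22CX.S28
import Cfsg.Agent.Lib.Helper9.TCData.Fi22CX.S29
import Cfsg.Agent.Lib.Helper9.TCData.Fi22CX.S30
import Cfsg.Agent.Lib.Helper9.TCData.Fi22CX.S31
import Cfsg.Agent.Lib.Helper9.TCData.Fi22CX.S32

set_option autoImplicit false
set_option maxRecDepth 1000000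

namespace Cfsg.Agent.Helper9.TCData.Fi22CX
open Cfsg.Agent.Helper9.TC2


theorem hE0 : ∀ u < 77744, chkE tab 0 u = true := by
  have h0 : ∀ u < 0, (fun u => chkE tab 0 u) u = true := range_zero
  have h1 : ∀ u < 1958, (fun u => chkE tab 0 u) u = true := ext_range (a := 0) (len := 1958) h0 e0_0
  have h2 : ∀ u < 4023, (fun u => chkE tab 0 u) u = true := ext_range (a := 1958) (len := 2065) h1 e0_1
  have h3 : ∀ u < 6761, (fun u => chkE tab 0 u) u = true := ext_range (a := 4023) (len := 2738) h2 e0_2
  have h4 : ∀ u < 8407, (fun u => chkE tab 0 u) u = true := ext_range (a := 6761) (len := 1646) h3 e0_3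
  have h5 : ∀ u < 10370, (fun u => chkE tab 0 u) u = true := ext_range (a := 8407) (len := 1963) h4 e0_4
  have h6 : ∀ u < 12480, (fun u => chkE tab 0 u) u = true := ext_range (a := 10370) (len := 2110) h5 e0_5
  have h7 : ∀ u < 15449, (fun u => chkE tab 0 u) u = true := ext_range (a := 12480) (len := 2969) h6 e0_6
  have h8 : ∀ u < 17253, (fun u => chkE tab 0 u) u = true := ext_range (a := 15449) (len := 1804) h7 e0_7
  have h9 : ∀ u < 18901, (fun u => chkE tab 0 u) u = true := ext_range (a := 17253) (len := 1648) h8 e0_8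
  have h10 : ∀ u < 20570, (fun u => chkE tab 0 u) u = true := ext_range (a := 18901) (len := 1669) h9 e0_9
  have h11 : ∀ u < 22857, (fun u => chkE tab 0 u) u = true := ext_range (a := 20570) (len := 2287) h10 e0_10
  have h12 : ∀ u < 24962, (fun u => chkE tab 0 u) u = true := ext_range (a := 22857) (len := 2105) h11 e0_11
  have h13 : ∀ u < 28804, (fun u => chkE tab 0 u) u = true := ext_range (a := 24962) (len := 3842) h12 e0_12
  have h14 : ∀ u < 31170, (fun u => chkE tab 0 u) u = true := ext_range (a := 28804) (len := 2366) h13 e0_13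
  have h15 : ∀ u < 32824, (fun u => chkE tab 0 u) u = true := ext_range (a := 31170) (len := 1654) h14 e0_14
  have h16 : ∀ u < 34847, (fun u => chkE tab 0 u) u = true := ext_range (a := 32824) (len := 2023) h15 e0_15
  have h17 : ∀ u < 36502, (fun u => chkE tab 0 u) u = true := ext_range (a := 34847) (len := 1655) h16 e0_16
  have h18 : ∀ u < 38243, (fun u => chkE tab 0 u) u = true := ext_range (a := 36502) (len := 1741) h17 e0_17
  have h19 : ∀ u < 39899, (fun u => chkE tab 0 u) u = true := ext_range (a := 38243) (len := 1656) h18 e0_18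
  have h20 : ∀ u < 47241, (fun u => chkE tab 0 u) u = true := ext_range (a := 39899) (len := 7342) h19 e0_19
  have h21 : ∀ u < 60425, (fun u => chkE tab 0 u) u = true := ext_range (a := 47241) (len := 13184) h20 e0_20
  have h22 : ∀ u < 77744, (fun u => chkE tab 0 u) u = true := ext_range (a := 60425) (len := 17319) h21 e0_21
  exact h22

theorem hE1 : ∀ u < 77744, chkE tab 1 u = true := by
  have h0 : ∀ u < 0, (fun u => chkE tab 1 u) u = true := range_zero
  have h1 : ∀ u < 2063, (fun u => chkE tab 1 u) u = true := ext_range (a := 0) (len := 2063) h0 e1_0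
  have h2 : ∀ u < 4122, (fun u => chkE tab 1 u) u = true := ext_range (a := 2063) (len := 2059) h1 e1_1
  have h3 : ∀ u < 6335, (fun u => chkE tab 1 u) u = true := ext_range (a := 4122) (len := 2213) h2 e1_2
  have h4 : ∀ u < 8546, (fun u => chkE tab 1 u) u = true := ext_range (a := 6335) (len := 2211) h3 e1_3
  have h5 : ∀ u < 10619, (fun u => chkE tab 1 u) u = true := ext_range (a := 8546) (len := 2073) h4 e1_4
  have h6 : ∀ u < 12995, (fun u => chkE tab 1 u) u = true := ext_range (a := 10619) (len := 2376) h5 e1_5
  have h7 : ∀ u < 15086, (fun u => chkE tab 1 u) u = true := ext_range (a := 12995) (len := 2091) h6 e1_6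
  have h8 : ∀ u < 17536, (fun u => chkE tab 1 u) u = true := ext_range (a := 15086) (len := 2450) h7 e1_7
  have h9 : ∀ u < 19382, (fun u => chkE tab 1 u) u = true := ext_range (a := 17536) (len := 1846) h8 e1_8
  have h10 : ∀ u < 21598, (fun u => chkE tab 1 u) u = true := ext_range (a := 19382) (len := 2216) h9 e1_9
  have h11 : ∀ u < 24184, (fun u => chkE tab 1 u) u = true := ext_range (a := 21598) (len := 2586) h10 e1_10
  have h12 : ∀ u < 26407, (fun u => chkE tab 1 u) u = true := ext_range (a := 24184) (len := 2223) h11 e1_11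
  have h13 : ∀ u < 28693, (fun u => chkE tab 1 u) u = true := ext_range (a := 26407) (len := 2286) h12 e1_12
  have h14 : ∀ u < 30801, (fun u => chkE tab 1 u) u = true := ext_range (a := 28693) (len := 2108) h13 e1_13
  have h15 : ∀ u < 33009, (fun u => chkE tab 1 u) u = true := ext_range (a := 30801) (len := 2208) h14 e1_14
  have h16 : ∀ u < 35449, (fun u => chkE tab 1 u) u = true := ext_range (a := 33009) (len := 2440) h15 e1_15
  have h17 : ∀ u < 37261, (fun u => chkE tab 1 u) u = true := ext_range (a := 35449) (len := 1812) h16 e1_16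
  have h18 : ∀ u < 39278, (fun u => chkE tab 1 u) u = true := ext_range (a := 37261) (len := 2017) h17 e1_17
  have h19 : ∀ u < 42835, (fun u => chkE tab 1 u) u = true := ext_range (a := 39278) (len := 3557) h18 e1_18
  have h20 : ∀ u < 58300, (fun u => chkE tab 1 u) u = true := ext_range (a := 42835) (len := 15465) h19 e1_19
  have h21 : ∀ u < 77744, (fun u => chkE tab 1 u) u = true := ext_range (a := 58300) (len := 19444) h20 e1_20
  exact h21

theorem hE2 : ∀ u < 77744, chkE tab 2 u = true := by
  have h0 : ∀ u < 0, (fun u => chkE tab 2 u) u = true := range_zero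
  have h1 : ∀ u < 2192, (fun u => chkE tab 2 u) u = true := ext_range (a := 0) (len := 2192) h0 e2_0
  have h2 : ∀ u < 4503, (fun u => chkE tab 2 u) u = true := ext_range (a := 2192) (len := 2311) h1 e2_1
  have h3 : ∀ u < 6813, (fun u => chkE tab 2 u) u = true := ext_range (a := 4503) (len := 2310) h2 e2_2
  have h4 : ∀ u < 9186, (fun u => chkE tab 2 u) u = true := ext_range (a := 6813) (len := 2373) h3 e2_3
  have h5 : ∀ u < 11653, (fun u => chkE tab 2 u) u = true := ext_range (a := 9186) (len := 2467) h4 e2_4
  have h6 : ∀ u < 13865, (fun u => chkE tab 2 u) u = true := ext_range (a := 11653) (len := 2212) h5 e2_5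
  have h7 : ∀ u < 16371, (fun u => chkE tab 2 u) u = true := ext_range (a := 13865) (len := 2506) h6 e2_6
  have h8 : ∀ u < 18692, (fun u => chkE tab 2 u) u = true := ext_range (a := 16371) (len := 2321) h7 e2_7
  have h9 : ∀ u < 20940, (fun u => chkE tab 2 u) u = true := ext_range (a := 18692) (len := 2248) h8 e2_8
  have h10 : ∀ u < 23631, (fun u => chkE tab 2 u) u = true := ext_range (a := 20940) (len := 2691) h9 e2_9
  have h11 : ∀ u < 25967, (fun u => chkE tab 2 u) u = true := ext_range (a := 23631) (len := 2336) h10 e2_10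
  have h12 : ∀ u < 28148, (fun u => chkE tab 2 u) u = true := ext_range (a := 25967) (len := 2181) h11 e2_11
  have h13 : ∀ u < 30493, (fun u => chkE tab 2 u) u = true := ext_range (a := 28148) (len := 2345) h12 e2_12
  have h14 : ∀ u < 33009, (fun u => chkE tab 2 u) u = true := ext_range (a := 30493) (len := 2516) h13 e2_13
  have h15 : ∀ u < 35604, (fun u => chkE tab 2 u) u = true := ext_range (a := 33009) (len := 2595) h14 e2_14
  have h16 : ∀ u < 37800, (fun u => chkE tab 2 u) u = true := ext_range (a := 35604) (len := 2196) h15 e2_15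
  have h17 : ∀ u < 39951, (fun u => chkE tab 2 u) u = true := ext_range (a := 37800) (len := 2151) h16 e2_16
  have h18 : ∀ u < 48969, (fun u => chkE tab 2 u) u = true := ext_range (a := 39951) (len := 9018) h17 e2_17
  have h19 : ∀ u < 66763, (fun u => chkE tab 2 u) u = true := ext_range (a := 48969) (len := 17794) h18 e2_18
  have h20 : ∀ u < 77744, (fun u => chkE tab 2 u) u = true := ext_range (a := 66763) (len := 10981) h19 e2_19
  exact h20

theorem hE3 : ∀ u < 77744, chkE tab 3 u = true := by
  have h0 : ∀ u < 0, (fun u => chkE tab 3 u) u = true := range_zero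
  have h1 : ∀ u < 2806, (fun u => chkE tab 3 u) u = true := ext_range (a := 0) (len := 2806) h0 e3_0
  have h2 : ∀ u < 5683, (fun u => chkE tab 3 u) u = true := ext_range (a := 2806) (len := 2877) h1 e3_1
  have h3 : ∀ u < 8459, (fun u => chkE tab 3 u) u = true := ext_range (a := 5683) (len := 2776) h2 e3_2
  have h4 : ∀ u < 11291, (fun u => chkE tab 3 u) u = true := ext_range (a := 8459) (len := 2832) h3 e3_3
  have h5 : ∀ u < 14095, (fun u => chkE tab 3 u) u = true := ext_range (a := 11291) (len := 2804) h4 e3_4
  have h6 : ∀ u < 16917, (fun u => chkE tab 3 u) u = true := ext_range (a := 14095) (len := 2822) h5 e3_5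
  have h7 : ∀ u < 19732, (fun u => chkE tab 3 u) u = true := ext_range (a := 16917) (len := 2815) h6 e3_6
  have h8 : ∀ u < 22575, (fun u => chkE tab 3 u) u = true := ext_range (a := 19732) (len := 2843) h7 e3_7
  have h9 : ∀ u < 25292, (fun u => chkE tab 3 u) u = true := ext_range (a := 22575) (len := 2717) h8 e3_8
  have h10 : ∀ u < 27939, (fun u => chkE tab 3 u) u = true := ext_range (a := 25292) (len := 2647) h9 e3_9
  have h11 : ∀ u < 30883, (fun u => chkE tab 3 u) u = true := ext_range (a := 27939) (len := 2944) h10 e3_10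
  have h12 : ∀ u < 33688, (fun u => chkE tab 3 u) u = true := ext_range (a := 30883) (len := 2805) h11 e3_11
  have h13 : ∀ u < 36411, (fun u => chkE tab 3 u) u = true := ext_range (a := 33688) (len := 2723) h12 e3_12
  have h14 : ∀ u < 39134, (fun u => chkE tab 3 u) u = true := ext_range (a := 36411) (len := 2723) h13 e3_13
  have h15 : ∀ u < 45523, (fun u => chkE tab 3 u) u = true := ext_range (a := 39134) (len := 6389) h14 e3_14
  have h16 : ∀ u < 60536, (fun u => chkE tab 3 u) u = true := ext_range (a := 45523) (len := 15013) h15 e3_15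
  have h17 : ∀ u < 77744, (fun u => chkE tab 3 u) u = true := ext_range (a := 60536) (len := 17208) h16 e3_16
  exact h17

theorem hE4 : ∀ u < 77744, chkE tab 4 u = true := by
  have h0 : ∀ u < 0, (fun u => chkE tab 4 u) u = true := range_zero
  have h1 : ∀ u < 2528, (fun u => chkE tab 4 u) u = true := ext_range (a := 0) (len := 2528) h0 e4_0
  have h2 : ∀ u < 5146, (fun u => chkE tab 4 u) u = true := ext_range (a := 2528) (len := 2618) h1 e4_1
  have h3 : ∀ u < 7814, (fun u => chkE tab 4 u) u = true := ext_range (a := 5146) (len := 2668) h2 e4_2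
  have h4 : ∀ u < 10524, (fun u => chkE tab 4 u) u = true := ext_range (a := 7814) (len := 2710) h3 e4_3
  have h5 : ∀ u < 13262, (fun u => chkE tab 4 u) u = true := ext_range (a := 10524) (len := 2738) h4 e4_4
  have h6 : ∀ u < 16006, (fun u => chkE tab 4 u) u = true := ext_range (a := 13262) (len := 2744) h5 e4_5
  have h7 : ∀ u < 18778, (fun u => chkE tab 4 u) u = true := ext_range (a := 16006) (len := 2772) h6 e4_6
  have h8 : ∀ u < 21479, (fun u => chkE tab 4 u) u = true := ext_range (a := 18778) (len := 2701) h7 e4_7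
  have h9 : ∀ u < 24216, (fun u => chkE tab 4 u) u = true := ext_range (a := 21479) (len := 2737) h8 e4_8
  have h10 : ∀ u < 27060, (fun u => chkE tab 4 u) u = true := ext_range (a := 24216) (len := 2844) h9 e4_9
  have h11 : ∀ u < 29745, (fun u => chkE tab 4 u) u = true := ext_range (a := 27060) (len := 2685) h10 e4_10
  have h12 : ∀ u < 32615, (fun u => chkE tab 4 u) u = true := ext_range (a := 29745) (len := 2870) h11 e4_11
  have h13 : ∀ u < 35296, (fun u => chkE tab 4 u) u = true := ext_range (a := 32615) (len := 2681) h12 e4_12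
  have h14 : ∀ u < 38227, (fun u => chkE tab 4 u) u = true := ext_range (a := 35296) (len := 2931) h13 e4_13
  have h15 : ∀ u < 40904, (fun u => chkE tab 4 u) u = true := ext_range (a := 38227) (len := 2677) h14 e4_14
  have h16 : ∀ u < 55653, (fun u => chkE tab 4 u) u = true := ext_range (a := 40904) (len := 14749) h15 e4_15
  have h17 : ∀ u < 72824, (fun u => chkE tab 4 u) u = true := ext_range (a := 55653) (len := 17171) h16 e4_16
  have h18 : ∀ u < 77744, (fun u => chkE tab 4 u) u = true := ext_range (a := 72824) (len := 4920) h17 e4_17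
  exact h18

theorem hE5 : ∀ u < 77744, chkE tab 5 u = true := by
  have h0 : ∀ u < 0, (fun u => chkE tab 5 u) u = true := range_zero
  have h1 : ∀ u < 2399, (fun u => chkE tab 5 u) u = true := ext_range (a := 0) (len := 2399) h0 e5_0
  have h2 : ∀ u < 4741, (fun u => chkE tab 5 u) u = true := ext_range (a := 2399) (len := 2342) h1 e5_1
  have h3 : ∀ u < 7078, (fun u => chkE tab 5 u) u = true := ext_range (a := 4741) (len := 2337) h2 e5_2
  have h4 : ∀ u < 9479, (fun u => chkE tab 5 u) u = true := ext_range (a := 7078) (len := 2401) h3 e5_3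
  have h5 : ∀ u < 11830, (fun u => chkE tab 5 u) u = true := ext_range (a := 9479) (len := 2351) h4 e5_4
  have h6 : ∀ u < 14225, (fun u => chkE tab 5 u) u = true := ext_range (a := 11830) (len := 2395) h5 e5_5
  have h7 : ∀ u < 16638, (fun u => chkE tab 5 u) u = true := ext_range (a := 14225) (len := 2413) h6 e5_6
  have h8 : ∀ u < 19068, (fun u => chkE tab 5 u) u = true := ext_range (a := 16638) (len := 2430) h7 e5_7
  have h9 : ∀ u < 21533, (fun u => chkE tab 5 u) u = true := ext_range (a := 19068) (len := 2465) h8 e5_8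
  have h10 : ∀ u < 23929, (fun u => chkE tab 5 u) u = true := ext_range (a := 21533) (len := 2396) h9 e5_9
  have h11 : ∀ u < 26409, (fun u => chkE tab 5 u) u = true := ext_range (a := 23929) (len := 2480) h10 e5_10
  have h12 : ∀ u < 28826, (fun u => chkE tab 5 u) u = true := ext_range (a := 26409) (len := 2417) h11 e5_11
  have h13 : ∀ u < 31279, (fun u => chkE tab 5 u) u = true := ext_range (a := 28826) (len := 2453) h12 e5_12
  have h14 : ∀ u < 33760, (fun u => chkE tab 5 u) u = true := ext_range (a := 31279) (len := 2481) h13 e5_13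
  have h15 : ∀ u < 36264, (fun u => chkE tab 5 u) u = true := ext_range (a := 33760) (len := 2504) h14 e5_14
  have h16 : ∀ u < 38839, (fun u => chkE tab 5 u) u = true := ext_range (a := 36264) (len := 2575) h15 e5_15
  have h17 : ∀ u < 43337, (fun u => chkE tab 5 u) u = true := ext_range (a := 38839) (len := 4498) h16 e5_16
  have h18 : ∀ u < 58029, (fun u => chkE tab 5 u) u = true := ext_range (a := 43337) (len := 14692) h17 e5_17
  have h19 : ∀ u < 74264, (fun u => chkE tab 5 u) u = true := ext_range (a := 58029) (len := 16235) h18 e5_18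
  have h20 : ∀ u < 77744, (fun u => chkE tab 5 u) u = true := ext_range (a := 74264) (len := 3480) h19 e5_19
  exact h20

theorem hE6 : ∀ u < 77744, chkE tab 6 u = true := by
  have h0 : ∀ u < 0, (fun u => chkE tab 6 u) u = true := range_zero
  have h1 : ∀ u < 2321, (fun u => chkE tab 6 u) u = true := ext_range (a := 0) (len := 2321) h0 e6_0
  have h2 : ∀ u < 4527, (fun u => chkE tab 6 u) u = true := ext_range (a := 2321) (len := 2206) h1 e6_1
  have h3 : ∀ u < 6726, (fun u => chkE tab 6 u) u = true := ext_range (a := 4527) (len := 2199) h2 e6_2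
  have h4 : ∀ u < 8911, (fun u => chkE tab 6 u) u = true := ext_range (a := 6726) (len := 2185) h3 e6_3
  have h5 : ∀ u < 11124, (fun u => chkE tab 6 u) u = true := ext_range (a := 8911) (len := 2213) h4 e6_4
  have h6 : ∀ u < 13329, (fun u => chkE tab 6 u) u = true := ext_range (a := 11124) (len := 2205) h5 e6_5
  have h7 : ∀ u < 15529, (fun u => chkE tab 6 u) u = true := ext_range (a := 13329) (len := 2200) h6 e6_6
  have h8 : ∀ u < 17738, (fun u => chkE tab 6 u) u = true := ext_range (a := 15529) (len := 2209) h7 e6_7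
  have h9 : ∀ u < 20019, (fun u => chkE tab 6 u) u = true := ext_range (a := 17738) (len := 2281) h8 e6_8
  have h10 : ∀ u < 22229, (fun u => chkE tab 6 u) u = true := ext_range (a := 20019) (len := 2210) h9 e6_9
  have h11 : ∀ u < 24445, (fun u => chkE tab 6 u) u = true := ext_range (a := 22229) (len := 2216) h10 e6_10
  have h12 : ∀ u < 26679, (fun u => chkE tab 6 u) u = true := ext_range (a := 24445) (len := 2234) h11 e6_11
  have h13 : ∀ u < 28933, (fun u => chkE tab 6 u) u = true := ext_range (a := 26679) (len := 2254) h12 e6_12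
  have h14 : ∀ u < 31142, (fun u => chkE tab 6 u) u = true := ext_range (a := 28933) (len := 2209) h13 e6_13
  have h15 : ∀ u < 33422, (fun u => chkE tab 6 u) u = true := ext_range (a := 31142) (len := 2280) h14 e6_14
  have h16 : ∀ u < 35658, (fun u => chkE tab 6 u) u = true := ext_range (a := 33422) (len := 2236) h15 e6_15
  have h17 : ∀ u < 37942, (fun u => chkE tab 6 u) u = true := ext_range (a := 35658) (len := 2284) h16 e6_16
  have h18 : ∀ u < 40358, (fun u => chkE tab 6 u) u = true := ext_range (a := 37942) (len := 2416) h17 e6_17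
  have h19 : ∀ u < 51694, (fun u => chkE tab 6 u) u = true := ext_range (a := 40358) (len := 11336) h18 e6_18
  have h20 : ∀ u < 67911, (fun u => chkE tab 6 u) u = true := ext_range (a := 51694) (len := 16217) h19 e6_19
  have h21 : ∀ u < 77744, (fun u => chkE tab 6 u) u = true := ext_range (a := 67911) (len := 9833) h20 e6_20
  exact h21

theorem hE7 : ∀ u < 77744, chkE tab 7 u = true := by
  have h0 : ∀ u < 0, (fun u => chkE tab 7 u) u = true := range_zero
  have h1 : ∀ u < 4316, (fun u => chkE tab 7 u) u = true := ext_range (a := 0) (len := 4316) h0 e7_0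
  have h2 : ∀ u < 8131, (fun u => chkE tab 7 u) u = true := ext_range (a := 4316) (len := 3815) h1 e7_1
  have h3 : ∀ u < 11715, (fun u => chkE tab 7 u) u = true := ext_range (a := 8131) (len := 3584) h2 e7_2
  have h4 : ∀ u < 15329, (fun u => chkE tab 7 u) u = true := ext_range (a := 11715) (len := 3614) h3 e7_3
  have h5 : ∀ u < 18692, (fun u => chkE tab 7 u) u = true := ext_range (a := 15329) (len := 3363) h4 e7_4
  have h6 : ∀ u < 22076, (fun u => chkE tab 7 u) u = true := ext_range (a := 18692) (len := 3384) h5 e7_5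
  have h7 : ∀ u < 25500, (fun u => chkE tab 7 u) u = true := ext_range (a := 22076) (len := 3424) h6 e7_6
  have h8 : ∀ u < 28768, (fun u => chkE tab 7 u) u = true := ext_range (a := 25500) (len := 3268) h7 e7_7
  have h9 : ∀ u < 32251, (fun u => chkE tab 7 u) u = true := ext_range (a := 28768) (len := 3483) h8 e7_8
  have h10 : ∀ u < 35405, (fun u => chkE tab 7 u) u = true := ext_range (a := 32251) (len := 3154) h9 e7_9
  have h11 : ∀ u < 38699, (fun u => chkE tab 7 u) u = true := ext_range (a := 35405) (len := 3294) h10 e7_10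
  have h12 : ∀ u < 46008, (fun u => chkE tab 7 u) u = true := ext_range (a := 38699) (len := 7309) h11 e7_11
  have h13 : ∀ u < 62871, (fun u => chkE tab 7 u) u = true := ext_range (a := 46008) (len := 16863) h12 e7_12
  have h14 : ∀ u < 77744, (fun u => chkE tab 7 u) u = true := ext_range (a := 62871) (len := 14873) h13 e7_13
  exact h14

theorem hE8 : ∀ u < 77744, chkE tab 8 u = true := by
  have h0 : ∀ u < 0, (fun u => chkE tab 8 u) u = true := range_zero
  have h1 : ∀ u < 4682, (fun u => chkE tab 8 u) u = true := ext_range (a := 0) (len := 4682) h0 e8_0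
  have h2 : ∀ u < 8827, (fun u => chkE tab 8 u) u = true := ext_range (a := 4682) (len := 4145) h1 e8_1
  have h3 : ∀ u < 12764, (fun u => chkE tab 8 u) u = true := ext_range (a := 8827) (len := 3937) h2 e8_2
  have h4 : ∀ u < 16538, (fun u => chkE tab 8 u) u = true := ext_range (a := 12764) (len := 3774) h3 e8_3
  have h5 : ∀ u < 20203, (fun u => chkE tab 8 u) u = true := ext_range (a := 16538) (len := 3665) h4 e8_4
  have h6 : ∀ u < 23978, (fun u => chkE tab 8 u) u = true := ext_range (a := 20203) (len := 3775) h5 e8_5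
  have h7 : ∀ u < 27489, (fun u => chkE tab 8 u) u = true := ext_range (a := 23978) (len := 3511) h6 e8_6
  have h8 : ∀ u < 31315, (fun u => chkE tab 8 u) u = true := ext_range (a := 27489) (len := 3826) h7 e8_7
  have h9 : ∀ u < 34828, (fun u => chkE tab 8 u) u = true := ext_range (a := 31315) (len := 3513) h8 e8_8
  have h10 : ∀ u < 38221, (fun u => chkE tab 8 u) u = true := ext_range (a := 34828) (len := 3393) h9 e8_9
  have h11 : ∀ u < 43437, (fun u => chkE tab 8 u) u = true := ext_range (a := 38221) (len := 5216) h10 e8_10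
  have h12 : ∀ u < 59579, (fun u => chkE tab 8 u) u = true := ext_range (a := 43437) (len := 16142) h11 e8_11
  have h13 : ∀ u < 77744, (fun u => chkE tab 8 u) u = true := ext_range (a := 59579) (len := 18165) h12 e8_12
  exact h13

theorem hL : ∀ u < 77744, chkL tab u = true := by
  have h0 : ∀ u < 0, (fun u => chkL tab u) u = true := range_zero
  have h1 : ∀ u < 1589, (fun u => chkL tab u) u = true := ext_range (a := 0) (len := 1589) h0 l_0
  have h2 : ∀ u < 3189, (fun u => chkL tab u) u = true := ext_range (a := 1589) (len := 1600) h1 l_1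
  have h3 : ∀ u < 4789, (fun u => chkL tab u) u = true := ext_range (a := 3189) (len := 1600) h2 l_2
  have h4 : ∀ u < 6389, (fun u => chkL tab u) u = true := ext_range (a := 4789) (len := 1600) h3 l_3
  have h5 : ∀ u < 7989, (fun u => chkL tab u) u = true := ext_range (a := 6389) (len := 1600) h4 l_4
  have h6 : ∀ u < 9589, (fun u => chkL tab u) u = true := ext_range (a := 7989) (len := 1600) h5 l_5
  have h7 : ∀ u < 11189, (fun u => chkL tab u) u = true := ext_range (a := 9589) (len := 1600) h6 l_6
  have h8 : ∀ u < 12789, (fun u => chkL tab u) u = true := ext_range (a := 11189) (len := 1600) h7 l_7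
  have h9 : ∀ u < 14389, (fun u => chkL tab u) u = true := ext_range (a := 12789) (len := 1600) h8 l_8
  have h10 : ∀ u < 15989, (fun u => chkL tab u) u = true := ext_range (a := 14389) (len := 1600) h9 l_9
  have h11 : ∀ u < 17589, (fun u => chkL tab u) u = true := ext_range (a := 15989) (len := 1600) h10 l_10
  have h12 : ∀ u < 19189, (fun u => chkL tab u) u = true := ext_range (a := 17589) (len := 1600) h11 l_11
  have h13 : ∀ u < 20789, (fun u => chkL tab u) u = true := ext_range (a := 19189) (len := 1600) h12 l_12
  have h14 : ∀ u < 22389, (fun u => chkL tab u) u = true := ext_range (a := 20789) (len := 1600) h13 l_13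
  have h15 : ∀ u < 23989, (fun u => chkL tab u) u = true := ext_range (a := 22389) (len := 1600) h14 l_14
  have h16 : ∀ u < 25589, (fun u => chkL tab u) u = true := ext_range (a := 23989) (len := 1600) h15 l_15
  have h17 : ∀ u < 27189, (fun u => chkL tab u) u = true := ext_range (a := 25589) (len := 1600) h16 l_16
  have h18 : ∀ u < 28789, (fun u => chkL tab u) u = true := ext_range (a := 27189) (len := 1600) h17 l_17
  have h19 : ∀ u < 30389, (fun u => chkL tab u) u = true := ext_range (a := 28789) (len := 1600) h18 l_18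
  have h20 : ∀ u < 31989, (fun u => chkL tab u) u = true := ext_range (a := 30389) (len := 1600) h19 l_19
  have h21 : ∀ u < 33589, (fun u => chkL tab u) u = true := ext_range (a := 31989) (len := 1600) h20 l_20
  have h22 : ∀ u < 35189, (fun u => chkL tab u) u = true := ext_range (a := 33589) (len := 1600) h21 l_21
  have h23 : ∀ u < 36789, (fun u => chkL tab u) u = true := ext_range (a := 35189) (len := 1600) h22 l_22
  have h24 : ∀ u < 38389, (fun u => chkL tab u) u = true := ext_range (a := 36789) (len := 1600) h23 l_23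
  have h25 : ∀ u < 39989, (fun u => chkL tab u) u = true := ext_range (a := 38389) (len := 1600) h24 l_24
  have h26 : ∀ u < 41589, (fun u => chkL tab u) u = true := ext_range (a := 39989) (len := 1600) h25 l_25
  have h27 : ∀ u < 43189, (fun u => chkL tab u) u = true := ext_range (a := 41589) (len := 1600) h26 l_26
  have h28 : ∀ u < 44789, (fun u => chkL tab u) u = true := ext_range (a := 43189) (len := 1600) h27 l_27
  have h29 : ∀ u < 46389, (fun u => chkL tab u) u = true := ext_range (a := 44789) (len := 1600) h28 l_28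
  have h30 : ∀ u < 47989, (fun u => chkL tab u) u = true := ext_range (a := 46389) (len := 1600) h29 l_29
  have h31 : ∀ u < 49589, (fun u => chkL tab u) u = true := ext_range (a := 47989) (len := 1600) h30 l_30
  have h32 : ∀ u < 51189, (fun u => chkL tab u) u = true := ext_range (a := 49589) (len := 1600) h31 l_31
  have h33 : ∀ u < 52789, (fun u => chkL tab u) u = true := ext_range (a := 51189) (len := 1600) h32 l_32
  have h34 : ∀ u < 54389, (fun u => chkL tab u) u = true := ext_range (a := 52789) (len := 1600) h33 l_33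
  have h35 : ∀ u < 55989, (fun u => chkL tab u) u = true := ext_range (a := 54389) (len := 1600) h34 l_34
  have h36 : ∀ u < 57589, (fun u => chkL tab u) u = true := ext_range (a := 55989) (len := 1600) h35 l_35
  have h37 : ∀ u < 59189, (fun u => chkL tab u) u = true := ext_range (a := 57589) (len := 1600) h36 l_36
  have h38 : ∀ u < 60789, (fun u => chkL tab u) u = true := ext_range (a := 59189) (len := 1600) h37 l_37
  have h39 : ∀ u < 62389, (fun u => chkL tab u) u = true := ext_range (a := 60789) (len := 1600) h38 l_38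
  have h40 : ∀ u < 63989, (fun u => chkL tab u) u = true := ext_range (a := 62389) (len := 1600) h39 l_39
  have h41 : ∀ u < 65589, (fun u => chkL tab u) u = true := ext_range (a := 63989) (len := 1600) h40 l_40
  have h42 : ∀ u < 67185, (fun u => chkL tab u) u = true := ext_range (a := 65589) (len := 1596) h41 l_41
  have h43 : ∀ u < 68785, (fun u => chkL tab u) u = true := ext_range (a := 67185) (len := 1600) h42 l_42
  have h44 : ∀ u < 70384, (fun u => chkL tab u) u = true := ext_range (a := 68785) (len := 1599) h43 l_43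
  have h45 : ∀ u < 71984, (fun u => chkL tab u) u = true := ext_range (a := 70384) (len := 1600) h44 l_44
  have h46 : ∀ u < 73581, (fun u => chkL tab u) u = true := ext_range (a := 71984) (len := 1597) h45 l_45
  have h47 : ∀ u < 75181, (fun u => chkL tab u) u = true := ext_range (a := 73581) (len := 1600) h46 l_46
  have h48 : ∀ u < 76781, (fun u => chkL tab u) u = true := ext_range (a := 75181) (len := 1600) h47 l_47
  have h49 : ∀ u < 77744, (fun u => chkL tab u) u = true := ext_range (a := 76781) (len := 963) h48 l_48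
  exact h49

theorem hF : ∀ u < 1, chkFin tab u = true := by
  have h0 : ∀ u < 0, (fun u => chkFin tab u) u = true := range_zero
  have h1 : ∀ u < 1, (fun u => chkFin tab u) u = true := ext_range (a := 0) (len := 1) h0 f_0
  exact h1

theorem hC : ∀ u < 77744, chkCls tab u = true := by
  have h0 : ∀ u < 0, (fun u => chkCls tab u) u = true := range_zero
  have h1 : ∀ u < 2667, (fun u => chkCls tab u) u = true := ext_range (a := 0) (len := 2667) h0 c_0
  have h2 : ∀ u < 5334, (fun u => chkCls tab u) u = true := ext_range (a := 2667) (len := 2667) h1 c_1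
  have h3 : ∀ u < 8001, (fun u => chkCls tab u) u = true := ext_range (a := 5334) (len := 2667) h2 c_2
  have h4 : ∀ u < 10668, (fun u => chkCls tab u) u = true := ext_range (a := 8001) (len := 2667) h3 c_3
  have h5 : ∀ u < 13335, (fun u => chkCls tab u) u = true := ext_range (a := 10668) (len := 2667) h4 c_4
  have h6 : ∀ u < 16002, (fun u => chkCls tab u) u = true := ext_range (a := 13335) (len := 2667) h5 c_5
  have h7 : ∀ u < 18669, (fun u => chkCls tab u) u = true := ext_range (a := 16002) (len := 2667) h6 c_6
  have h8 : ∀ u < 21336, (fun u => chkCls tab u) u = true := ext_range (a := 18669) (len := 2667) h7 c_7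
  have h9 : ∀ u < 24003, (fun u => chkCls tab u) u = true := ext_range (a := 21336) (len := 2667) h8 c_8
  have h10 : ∀ u < 26670, (fun u => chkCls tab u) u = true := ext_range (a := 24003) (len := 2667) h9 c_9
  have h11 : ∀ u < 29337, (fun u => chkCls tab u) u = true := ext_range (a := 26670) (len := 2667) h10 c_10
  have h12 : ∀ u < 32004, (fun u => chkCls tab u) u = true := ext_range (a := 29337) (len := 2667) h11 c_11
  have h13 : ∀ u < 34671, (fun u => chkCls tab u) u = true := ext_range (a := 32004) (len := 2667) h12 c_12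
  have h14 : ∀ u < 37338, (fun u => chkCls tab u) u = true := ext_range (a := 34671) (len := 2667) h13 c_13
  have h15 : ∀ u < 40005, (fun u => chkCls tab u) u = true := ext_range (a := 37338) (len := 2667) h14 c_14
  have h16 : ∀ u < 42672, (fun u => chkCls tab u) u = true := ext_range (a := 40005) (len := 2667) h15 c_15
  have h17 : ∀ u < 45339, (fun u => chkCls tab u) u = true := ext_range (a := 42672) (len := 2667) h16 c_16
  have h18 : ∀ u < 48006, (fun u => chkCls tab u) u = true := ext_range (a := 45339) (len := 2667) h17 c_17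
  have h19 : ∀ u < 50673, (fun u => chkCls tab u) u = true := ext_range (a := 48006) (len := 2667) h18 c_18
  have h20 : ∀ u < 53340, (fun u => chkCls tab u) u = true := ext_range (a := 50673) (len := 2667) h19 c_19
  have h21 : ∀ u < 56007, (fun u => chkCls tab u) u = true := ext_range (a := 53340) (len := 2667) h20 c_20
  have h22 : ∀ u < 58674, (fun u => chkCls tab u) u = true := ext_range (a := 56007) (len := 2667) h21 c_21
  have h23 : ∀ u < 61341, (fun u => chkCls tab u) u = true := ext_range (a := 58674) (len := 2667) h22 c_22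
  have h24 : ∀ u < 64008, (fun u => chkCls tab u) u = true := ext_range (a := 61341) (len := 2667) h23 c_23
  have h25 : ∀ u < 66675, (fun u => chkCls tab u) u = true := ext_range (a := 64008) (len := 2667) h24 c_24
  have h26 : ∀ u < 69342, (fun u => chkCls tab u) u = true := ext_range (a := 66675) (len := 2667) h25 c_25
  have h27 : ∀ u < 72009, (fun u => chkCls tab u) u = true := ext_range (a := 69342) (len := 2667) h26 c_26
  have h28 : ∀ u < 74676, (fun u => chkCls tab u) u = true := ext_range (a := 72009) (len := 2667) h27 c_27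
  have h29 : ∀ u < 77343, (fun u => chkCls tab u) u = true := ext_range (a := 74676) (len := 2667) h28 c_28
  have h30 : ∀ u < 77744, (fun u => chkCls tab u) u = true := ext_range (a := 77343) (len := 401) h29 c_29
  exact h30

theorem hM1 : ∀ u < 1, chkM1 tab u = true := by
  have h0 : ∀ u < 0, (fun u => chkM1 tab u) u = true := range_zero
  have h1 : ∀ u < 1, (fun u => chkM1 tab u) u = true := ext_range (a := 0) (len := 1) h0 m1_0
  exact h1

theorem hM2 : ∀ u < 1, chkFix tab mwords u = true := by
  have h0 : ∀ u < 0, (fun u => chkFix tab mwords u) u = true := range_zero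
  have h1 : ∀ u < 1, (fun u => chkFix tab mwords u) u = true := ext_range (a := 0) (len := 1) h0 m2_0
  exact h1

theorem hE : ∀ c < 9, ∀ u < 77744, chkE tab c u = true := by
  intro c hc
  interval_cases c
  · exact hE0
  · exact hE1
  · exact hE2
  · exact hE3
  · exact hE4
  · exact hE5
  · exact hE6
  · exact hE7
  · exact hE8

end Cfsg.Agent.Helper9.TCData.Fi22CX
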