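import Cfsg.Agent.Lib.Helper9.TCData.Fi22CX.Main

set_option autoImplicit false
set_option maxRecDepth 1000000

namespace Cfsg.Agent.Helper9.TCData.Fi22CX
open Cfsg.Agent.Helper9.TC2

theorem e4_8 : allRange 21479 2737 (fun u => chkE tab 4 u) = true := by decide +kernel

theorem e4_9 : allRange 24216 2844 (fun u => chkE tab 4 u) = true := by decide +kernel

theorem e4_10 : allRange 27060 2685 (fun u => chkE tab 4 u) = true := by decide +kernel

theorem e4_11 : allRange 29745 2870 (fun u => chkE tab 4 u) = true := by decide +kernel

theorem e4_12 : allRange 32615 2681 (fun u => chkE tab 4 u) = true := by decide +kernel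

theorem e4_13 : allRange 35296 2931 (fun u => chkE tab 4 u) = true := by decide +kernel

theorem e4_14 : allRange 38227 2677 (fun u => chkE tab 4 u) = true := by decide +kernel

theorem e4_15 : allRange 40904 14749 (fun u => chkE tab 4 u) = true := by decide +kernel


end Cfsg.Agent.Helper9.TCData.Fi22CX
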